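import Groth.Agent.LocCoh.K166.DTBasic
import Mathlib.RingTheory.Finiteness.Projective

/-!
# The ideal transform inverts maps with power torsion kernel and cokernel

* `bijective_map`: `D_I(e)` is bijective if `ker e` and `coker e` are `I`-power torsion.
* `subsingleton_DT`: `D_I(N) = 0` for `N` power torsion.
* `bijective_toDT_DT`, `existsUnique_factor`, `factor_bijective`.
-/

set_option autoImplicit false
universe u

open CategoryTheory Limits Opposite

namespace K166.DTB

variable {R : Type u} [CommRing R] {I : Ideal R}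

section Torsion

variable {M : Type u} [AddCommGroup M] [Module R M]

/-- A finite module mapping into the power torsion submodule is killed by a fixed power. -/
lemma exists_pow_kill {P : Type*} [AddCommGroup P] [Module R P] [Module.Finite R P]
    (g : P →ₗ[R] M) (hg : ∀ p, g p ∈ DRing.torsionSub I M) :
    ∃ k : ℕ, ∀ a ∈ I ^ k, ∀ p, a • g p = 0 := by
  classical
  obtain ⟨s, hs⟩ := (Module.Finite.fg_top : (⊤ : Submodule R P).FG)
  choose n hn using hg
  refine ⟨∑ p ∈ s, n p, fun a ha p => ?_⟩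
  have hp : p ∈ Submodule.span R (s : Set P) := by rw [hs]; trivial
  refine Submodule.span_induction (p := fun p _ => a • g p = 0) ?_ ?_ ?_ ?_ hp
  · intro x hx
    exact hn x a (Ideal.pow_le_pow_right (Finset.single_le_sum (fun _ _ => Nat.zero_le _)
      (Finset.mem_coe.1 hx)) ha)
  · rw [map_zero, smul_zero]
  · intro x y _ _ hx hy
    rw [map_add, smul_add, hx, hy, add_zero]
  · intro c x _ hx
    rw [map_smul, smul_comm, hx, smul_zero]

/-- The same for a linear map to a quotient. -/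
lemma exists_pow_kill' {P N : Type*} [AddCommGroup P] [Module R P] [Module.Finite R P]
    [AddCommGroup N] [Module R N] (hN : LocCoh.IsPowerTorsion I N)
    (g : P →ₗ[R] N) :
    ∃ k : ℕ, ∀ a ∈ I ^ k, ∀ p, a • g p = 0 := by
  classical
  obtain ⟨s, hs⟩ := (Module.Finite.fg_top : (⊤ : Submodule R P).FG)
  choose n hn using fun p => hN (g p)
  refine ⟨∑ p ∈ s, n p, fun a ha p => ?_⟩
  have hp : p ∈ Submodule.span R (s : Set P) := by rw [hs]; trivial
  refine Submodule.span_induction (p := fun p _ => a • g p = 0) ?_ ?_ ?_ ?_ hp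
  · intro x hx
    exact hn x a (Ideal.pow_le_pow_right (Finset.single_le_sum (fun _ _ => Nat.zero_le _)
      (Finset.mem_coe.1 hx)) ha)
  · rw [map_zero, smul_zero]
  · intro x y _ _ hx hy
    rw [map_add, smul_add, hx, hy, add_zero]
  · intro c x _ hx
    rw [map_smul, smul_comm, hx, smul_zero]

/-- If `I^k` kills the values of `f` on `I^n`, then `f` vanishes on `I^(k+n)`. -/
lemma eq_zero_of_kill {N : Type*} [AddCommGroup N] [Module R N] {n k : ℕ}
    (f : (I ^ n : Ideal R) →ₗ[R] N) (hf : ∀ a ∈ I ^ k, ∀ x, a • f x = 0)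
    (r : R) (hr : r ∈ I ^ (k + n)) (hr' : r ∈ I ^ n) : f ⟨r, hr'⟩ = 0 := by
  have key : I ^ k * I ^ n ≤ Submodule.map (I ^ n).subtype (LinearMap.ker f) := by
    rw [Ideal.mul_le]
    intro a ha b hb
    refine ⟨a • ⟨b, hb⟩, ?_, rfl⟩
    change f (a • ⟨b, hb⟩) = 0
    rw [map_smul, hf a ha]
  rw [← pow_add] at key
  obtain ⟨x, hx, hxr⟩ := key hr
  have : x = ⟨r, hr'⟩ := Subtype.ext hxr
  rw [← this]
  exact hx

variable [IsNoetherianRing R]

/-- `D_I(N) = 0` for an `I`-power torsion module `N`. -/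
theorem subsingleton_DT {N : Type u} [AddCommGroup N] [Module R N]
    (hN : LocCoh.IsPowerTorsion I N) : Subsingleton (LocCoh.DT I N) := by
  refine subsingleton_of_forall_eq 0 fun y => ?_
  obtain ⟨n, f, rfl⟩ := exists_ι y
  obtain ⟨k, hk⟩ := exists_pow_kill' hN f
  rw [ι_eq_zero_iff]
  exact ⟨k + n, Nat.le_add_left _ _, fun r hr hr' => eq_zero_of_kill f hk r hr hr'⟩

end Torsion

section Main

variable [IsNoetherianRing R] {M : Type u} [AddCommGroup M] [Module R M]
  {M' : Type u} [AddCommGroup M'] [Module R M']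

theorem map_injective (e : M →ₗ[R] M') (hker : LinearMap.ker e ≤ DRing.torsionSub I M) :
    Function.Injective ((LocCoh.idealTransform I).map (ModuleCat.ofHom e)).hom := by
  rw [injective_iff_map_eq_zero]
  intro y hy
  obtain ⟨n, f, rfl⟩ := exists_ι y
  rw [map_ι] at hy
  obtain ⟨m, hm, h0⟩ := exists_comp_inc_eq_zero hy
  rw [← ι_inc hm]
  obtain ⟨k, hk⟩ := exists_pow_kill (I := I) (f ∘ₗ inc I hm) (fun p => hker (by
    exact LinearMap.congr_fun h0 p))
  rw [ι_eq_zero_iff]
  exact ⟨k + m, Nat.le_add_left _ _, fun r hr hr' => eq_zero_of_kill _ hk r hr hr'⟩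

/-- Lifting of maps `I^n → M'` with values in the range of `e : M → M'` with torsion kernel,
after shrinking (Artin–Rees). -/
lemma exists_lift (e : M →ₗ[R] M') (hker : LinearMap.ker e ≤ DRing.torsionSub I M) {n : ℕ}
    (g : (I ^ n : Ideal R) →ₗ[R] M') (hg : ∀ x, g x ∈ LinearMap.range e) :
    ∃ (m : ℕ) (h : n ≤ m) (f : (I ^ m : Ideal R) →ₗ[R] M), e ∘ₗ f = g ∘ₗ inc I h := by
  obtain ⟨s, p, hp⟩ := Module.Finite.exists_fin' R (I ^ n : Ideal R)
  obtain ⟨h, hh⟩ := Module.projective_lifting_property e.rangeRestrict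
    ((g.codRestrict (LinearMap.range e) hg) ∘ₗ p) e.surjective_rangeRestrict
  have hh' : ∀ x, e (h x) = g (p x) := fun x => congrArg Subtype.val (LinearMap.congr_fun hh x)
  -- the kernel of `p`
  obtain ⟨k, hk⟩ := exists_pow_kill (I := I) (h ∘ₗ (LinearMap.ker p).subtype) (fun z => hker (by
    rw [LinearMap.mem_ker, LinearMap.comp_apply, hh', Submodule.subtype_apply,
      LinearMap.mem_ker.1 z.2, map_zero]))
  obtain ⟨c, hc⟩ := Ideal.exists_pow_inf_eq_pow_smul I (LinearMap.ker p)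
  let F : Submodule R (Fin s → R) := I ^ (k + c) • ⊤
  have hF : ∀ x ∈ F, p x = 0 → h x = 0 := by
    intro x hx hx0
    have h1 : x ∈ I ^ (k + c) • ⊤ ⊓ LinearMap.ker p := ⟨hx, hx0⟩
    rw [hc (k + c) (Nat.le_add_left _ _), Nat.add_sub_cancel] at h1
    refine Submodule.smul_induction_on (p := fun x => h x = 0) h1 ?_ ?_
    · intro a ha z hz
      rw [map_smul]
      exact hk a ha ⟨z, hz.2⟩
    · intro x y hx hy
      rw [map_add, hx, hy, add_zero]
  have hmap : Submodule.map ((I ^ n).subtype ∘ₗ p) F = I ^ (k + c + n) := by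
    rw [Submodule.map_smul'', Submodule.map_top, LinearMap.range_comp, LinearMap.range_eq_top.2 hp,
      Submodule.map_top, Submodule.range_subtype, smul_eq_mul, ← pow_add]
  let p' : F →ₗ[R] (I ^ (k + c + n) : Ideal R) :=
    ((I ^ n).subtype ∘ₗ p ∘ₗ F.subtype).codRestrict _ (fun x => by
      rw [← hmap]
      exact ⟨x.1, x.2, rfl⟩)
  have hp' : Function.Surjective p' := by
    rintro ⟨r, hr⟩
    rw [← hmap] at hr
    obtain ⟨x, hx, hxr⟩ := hr
    exact ⟨⟨x, hx⟩, Subtype.ext hxr⟩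
  have hle : LinearMap.ker p' ≤ LinearMap.ker (h ∘ₗ F.subtype) := by
    intro x hx
    have h0 : p' x = 0 := hx
    have h1 : ((p x.1 : (I ^ n : Ideal R)) : R) = 0 :=
      congrArg (Subtype.val : (I ^ (k + c + n) : Ideal R) → R) h0
    exact hF x.1 x.2 (Subtype.ext h1)
  refine ⟨k + c + n, Nat.le_add_left _ _, (LinearMap.ker p').liftQ (h ∘ₗ F.subtype) hle ∘ₗ
    (p'.quotKerEquivOfSurjective hp').symm.toLinearMap, ?_⟩
  ext r
  obtain ⟨x, rfl⟩ := hp' r
  have h2 : (p'.quotKerEquivOfSurjective hp').symm (p' x) = Submodule.Quotient.mk x := by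
    rw [LinearEquiv.symm_apply_eq]
    rfl
  rw [LinearMap.comp_apply, LinearMap.comp_apply, LinearEquiv.coe_coe, h2,
    Submodule.liftQ_apply, LinearMap.comp_apply, hh', LinearMap.comp_apply]
  congr 1

theorem map_surjective (e : M →ₗ[R] M') (hker : LinearMap.ker e ≤ DRing.torsionSub I M)
    (hcoker : LocCoh.IsPowerTorsion I (M' ⧸ LinearMap.range e)) :
    Function.Surjective ((LocCoh.idealTransform I).map (ModuleCat.ofHom e)).hom := by
  intro y
  obtain ⟨n, g, rfl⟩ := exists_ι y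
  obtain ⟨k, hk⟩ := exists_pow_kill' hcoker ((LinearMap.range e).mkQ ∘ₗ g)
  have hkn : n ≤ k + n := Nat.le_add_left _ _
  obtain ⟨m, hm, f, hf⟩ := exists_lift e hker (g ∘ₗ inc I hkn) (fun x => by
    rw [← Submodule.Quotient.mk_eq_zero]
    exact eq_zero_of_kill ((LinearMap.range e).mkQ ∘ₗ g) hk x.1 x.2 (Ideal.pow_le_pow_right hkn x.2))
  refine ⟨ι I M m f, ?_⟩
  rw [map_ι, hf, ι_inc, ι_inc]

/-- `D_I(e)` is bijective when the kernel and the cokernel of `e` are power torsion. -/
theorem map_bijective (e : M →ₗ[R] M') (hker : LinearMap.ker e ≤ DRing.torsionSub I M)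
    (hcoker : LocCoh.IsPowerTorsion I (M' ⧸ LinearMap.range e)) :
    Function.Bijective ((LocCoh.idealTransform I).map (ModuleCat.ofHom e)).hom :=
  ⟨map_injective e hker, map_surjective e hker hcoker⟩

variable (I M) in
/-- `D(η_M)` is bijective. -/
theorem map_toDT_bijective :
    Function.Bijective ((LocCoh.idealTransform I).map (ModuleCat.ofHom (LocCoh.toDT I M))).hom :=
  map_bijective _ ker_toDT.le isPowerTorsion_coker_toDT

variable (I M) in
/-- `η_{D M}` is bijective. -/
theorem toDT_DT_bijective : Function.Bijective (LocCoh.toDT I (LocCoh.DT I M)) := by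
  have h : (LocCoh.toDT I (LocCoh.DT I M) : LocCoh.DT I M → _) =
      ((LocCoh.idealTransform I).map (ModuleCat.ofHom (LocCoh.toDT I M))).hom :=
    funext toDT_DT_eq
  rw [h]
  exact map_toDT_bijective I M

variable (I M) in
/-- `D_I(M)` has no power torsion. -/
theorem torsionSub_DT : DRing.torsionSub I (LocCoh.DT I M) = ⊥ := by
  rw [← ker_toDT, LinearMap.ker_eq_bot]
  exact (toDT_DT_bijective I M).1

omit [IsNoetherianRing R] in
/-- The naturality of `η`. -/
theorem map_comp_toDT (e : M →ₗ[R] M') (m : M) :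
    ((LocCoh.idealTransform I).map (ModuleCat.ofHom e)).hom (LocCoh.toDT I M m) =
      LocCoh.toDT I M' (e m) := by
  rw [toDT_eq_ι_zero, toDT_eq_ι_zero, map_ι]
  congr 1
  ext ⟨r, hr⟩
  simp

omit [IsNoetherianRing R] in
/-- Uniqueness of maps into a module without power torsion. -/
theorem hom_ext_of_coker_torsion (e : M →ₗ[R] M')
    (hcoker : LocCoh.IsPowerTorsion I (M' ⧸ LinearMap.range e))
    {N : Type u} [AddCommGroup N] [Module R N] (hN : DRing.torsionSub I N = ⊥)
    {φ ψ : M' →ₗ[R] N} (h : φ ∘ₗ e = ψ ∘ₗ e) : φ = ψ := by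
  ext x
  obtain ⟨n, hn⟩ := hcoker (Submodule.Quotient.mk x)
  rw [← sub_eq_zero, ← Submodule.mem_bot R, ← hN]
  refine ⟨n, fun a ha => ?_⟩
  have h1 := hn a ha
  rw [← Submodule.Quotient.mk_smul, Submodule.Quotient.mk_eq_zero] at h1
  obtain ⟨m, hm⟩ := h1
  rw [smul_sub, ← map_smul, ← map_smul, ← hm, sub_eq_zero]
  exact LinearMap.congr_fun h m

theorem exists_factor {K : Type u} [AddCommGroup K] [Module R K] (e : M →ₗ[R] M')
    (hker : LinearMap.ker e ≤ DRing.torsionSub I M)
    (hcoker : LocCoh.IsPowerTorsion I (M' ⧸ LinearMap.range e)) (ψ : M →ₗ[R] K) :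
    ∃ ψ' : M' →ₗ[R] LocCoh.DT I K, ψ' ∘ₗ e = LocCoh.toDT I K ∘ₗ ψ ∧
      (Function.Bijective ψ → Function.Bijective (LocCoh.toDT I M') → Function.Bijective ψ') := by
  let D : LocCoh.DT I M ≃ₗ[R] LocCoh.DT I M' := LinearEquiv.ofBijective
    ((LocCoh.idealTransform I).map (ModuleCat.ofHom e)).hom (map_bijective e hker hcoker)
  refine ⟨((LocCoh.idealTransform I).map (ModuleCat.ofHom ψ)).hom ∘ₗ D.symm.toLinearMap ∘ₗ
    LocCoh.toDT I M', ?_, ?_⟩
  · ext m
    have h1 : D.symm (LocCoh.toDT I M' (e m)) = LocCoh.toDT I M m := by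
      rw [LinearEquiv.symm_apply_eq]
      exact (map_comp_toDT e m).symm
    rw [LinearMap.comp_apply, LinearMap.comp_apply, LinearMap.comp_apply, LinearEquiv.coe_coe, h1,
      LinearMap.comp_apply]
    exact map_comp_toDT ψ m
  · intro hψ hη
    have h1 : Function.Bijective ((LocCoh.idealTransform I).map (ModuleCat.ofHom ψ)).hom := by
      refine map_bijective ψ ?_ ?_
      · rw [LinearMap.ker_eq_bot.2 hψ.1]
        exact bot_le
      · intro q
        obtain ⟨y, rfl⟩ := Submodule.Quotient.mk_surjective _ q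
        refine ⟨0, fun a _ => ?_⟩
        rw [(Submodule.Quotient.mk_eq_zero _).2 (hψ.2 y), smul_zero]
    exact h1.comp (D.symm.bijective.comp hη)

theorem existsUnique_factor {K : Type u} [AddCommGroup K] [Module R K] (e : M →ₗ[R] M')
    (hker : LinearMap.ker e ≤ DRing.torsionSub I M)
    (hcoker : LocCoh.IsPowerTorsion I (M' ⧸ LinearMap.range e)) (ψ : M →ₗ[R] K) :
    ∃! ψ' : M' →ₗ[R] LocCoh.DT I K, ψ' ∘ₗ e = LocCoh.toDT I K ∘ₗ ψ := by
  obtain ⟨ψ', h, -⟩ := exists_factor e hker hcoker ψ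
  refine ⟨ψ', h, fun φ hφ => ?_⟩
  exact hom_ext_of_coker_torsion e hcoker (torsionSub_DT I K) (hφ.trans h.symm)

theorem factor_bijective {K : Type u} [AddCommGroup K] [Module R K] (e : M →ₗ[R] M')
    (hker : LinearMap.ker e ≤ DRing.torsionSub I M)
    (hcoker : LocCoh.IsPowerTorsion I (M' ⧸ LinearMap.range e)) (ψ : M →ₗ[R] K)
    (hψ : Function.Bijective ψ) (ψ' : M' →ₗ[R] LocCoh.DT I K)
    (hψ' : ψ' ∘ₗ e = LocCoh.toDT I K ∘ₗ ψ) (hη : Function.Bijective (LocCoh.toDT I M')) :
    Function.Bijective ψ' := by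
  obtain ⟨ψ₀, h, hb⟩ := exists_factor e hker hcoker ψ
  have := hom_ext_of_coker_torsion e hcoker (torsionSub_DT I K) (hψ'.trans h.symm)
  rw [this]
  exact hb hψ hη

end Main

end K166.DTB
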