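import Groth.Prelude.Def_W4bk5brsh16IT
import Mathlib.Algebra.Category.ModuleCat.FilteredColimits
import Mathlib.CategoryTheory.Limits.ConcreteCategory.WithAlgebraicStructures
import Mathlib.RingTheory.Filtration

/-!
# Elementwise description of the ideal transform `D_I(M) = colim_n Hom_R(I^n, M)`

`ι I n M : (I^n →ₗ[R] M) →ₗ[R] LocCoh.DT I M` is the coprojection; the maps are jointly
surjective, and `ι I n M f = 0` iff `f` vanishes on a smaller power of `I`.
-/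

set_option autoImplicit false
universe u

open CategoryTheory Limits Opposite

namespace K166.DTB

variable {R : Type u} [CommRing R] (I : Ideal R)

/-- The evaluated colimit cocone. -/
noncomputable abbrev coc (M : ModuleCat.{u} R) :
    Cocone (LocCoh.transformDiagram I ⋙ (evaluation _ (ModuleCat.{u} R)).obj M) :=
  ((evaluation _ (ModuleCat.{u} R)).obj M).mapCocone (colimit.cocone (LocCoh.transformDiagram I))

/-- The evaluated colimit cocone is a colimit. -/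
noncomputable def isColimitCoc (M : ModuleCat.{u} R) : IsColimit (coc I M) :=
  isColimitOfPreserves _ (colimit.isColimit _)

/-- The inclusion `I^t ⊆ I^s` for `s ≤ t`. -/
def inc {s t : ℕ} (h : s ≤ t) : (I ^ t : Ideal R) →ₗ[R] (I ^ s : Ideal R) :=
  Submodule.inclusion (Ideal.pow_le_pow_right h)

@[simp] lemma coe_inc {s t : ℕ} (h : s ≤ t) (x : (I ^ t : Ideal R)) :
    (inc I h x : R) = x := rfl

variable (M : Type u) [AddCommGroup M] [Module R M]

/-- The coprojection `Hom_R(I^n, M) → D_I(M)`. -/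
noncomputable def ι (n : ℕ) : ((I ^ n : Ideal R) →ₗ[R] M) →ₗ[R] LocCoh.DT I M :=
  (((colimit.ι (LocCoh.transformDiagram I) (op (op n))).app (ModuleCat.of R M)).hom) ∘ₗ
    (ModuleCat.homLinearEquiv (S := R) (M := ModuleCat.of R (I ^ n : Ideal R))
      (N := ModuleCat.of R M)).symm.toLinearMap

variable {I M}

lemma ι_apply (n : ℕ) (f : (I ^ n : Ideal R) →ₗ[R] M) :
    ι I M n f = ((colimit.ι (LocCoh.transformDiagram I) (op (op n))).app (ModuleCat.of R M)).hom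
      (ModuleCat.ofHom f) := rfl

lemma ι_eq_coc (n : ℕ) (f : (I ^ n : Ideal R) →ₗ[R] M) :
    ι I M n f = ((coc I (ModuleCat.of R M)).ι.app (op (op n))).hom (ModuleCat.ofHom f) := rfl

lemma ι_inc {s t : ℕ} (h : s ≤ t) (f : (I ^ s : Ideal R) →ₗ[R] M) :
    ι I M t (f ∘ₗ inc I h) = ι I M s f := by
  have h2 := (coc I (ModuleCat.of R M)).w (show (op (op s) : ℕᵒᵖᵒᵖ) ⟶ op (op t) from
    (homOfLE h).op.op)
  let f' : ModuleCat.of R (I ^ s : Ideal R) ⟶ ModuleCat.of R M := ModuleCat.ofHom f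
  exact ConcreteCategory.congr_hom h2 f'

lemma exists_ι (y : LocCoh.DT I M) :
    ∃ (n : ℕ) (f : (I ^ n : Ideal R) →ₗ[R] M), ι I M n f = y := by
  have : PreservesFilteredColimitsOfSize.{0, 0} (forget (ModuleCat.{u} R)) :=
    preservesSmallestFilteredColimits_of_preservesFilteredColimits.{u, u} _
  have : PreservesColimitsOfShape (ℕᵒᵖ)ᵒᵖ (forget (ModuleCat.{u} R)) :=
    PreservesFilteredColimitsOfSize.preserves_filtered_colimits _
  obtain ⟨⟨⟨t⟩⟩, x, hx⟩ := Concrete.isColimit_exists_rep _ (isColimitCoc I (ModuleCat.of R M)) y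
  exact ⟨t, ModuleCat.Hom.hom x, hx⟩

/-- A representative defined on an arbitrarily high power of `I`. -/
lemma exists_ι_ge (k : ℕ) (y : LocCoh.DT I M) :
    ∃ (n : ℕ) (_ : k ≤ n) (f : (I ^ n : Ideal R) →ₗ[R] M), ι I M n f = y := by
  obtain ⟨n, f, rfl⟩ := exists_ι y
  exact ⟨max k n, le_max_left _ _, f ∘ₗ inc I (le_max_right _ _), ι_inc _ _⟩

lemma exists_comp_inc_eq_zero {n : ℕ} {f : (I ^ n : Ideal R) →ₗ[R] M} (hf : ι I M n f = 0) :
    ∃ (m : ℕ) (h : n ≤ m), f ∘ₗ inc I h = 0 := by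
  have : PreservesFilteredColimitsOfSize.{0, 0} (forget (ModuleCat.{u} R)) :=
    preservesSmallestFilteredColimits_of_preservesFilteredColimits.{u, u} _
  have : PreservesColimitsOfShape (ℕᵒᵖ)ᵒᵖ (forget (ModuleCat.{u} R)) :=
    PreservesFilteredColimitsOfSize.preserves_filtered_colimits _
  have hx' : ((coc I (ModuleCat.of R M)).ι.app (op (op n))) (ModuleCat.ofHom f) =
      ((coc I (ModuleCat.of R M)).ι.app (op (op n))) 0 := by
    rw [map_zero]; exact hf
  obtain ⟨⟨⟨s⟩⟩, a, b, hab⟩ := Concrete.isColimit_exists_of_rep_eq _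
    (isColimitCoc I (ModuleCat.of R M)) _ _ hx'
  have hns : n ≤ s := leOfHom a.unop.unop
  refine ⟨s, hns, ?_⟩
  have h3 : ((LocCoh.transformDiagram I ⋙ (evaluation _ (ModuleCat.{u} R)).obj
      (ModuleCat.of R M)).map a) (ModuleCat.ofHom f) = 0 := by
    rw [hab]
    exact map_zero _
  exact congrArg ModuleCat.Hom.hom h3

lemma ι_eq_zero_iff {n : ℕ} {f : (I ^ n : Ideal R) →ₗ[R] M} :
    ι I M n f = 0 ↔ ∃ (m : ℕ) (_ : n ≤ m), ∀ (r : R) (_ : r ∈ I ^ m) (hr' : r ∈ I ^ n),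
      f ⟨r, hr'⟩ = 0 := by
  constructor
  · intro h
    obtain ⟨m, hm, h0⟩ := exists_comp_inc_eq_zero h
    exact ⟨m, hm, fun r hr _ => LinearMap.congr_fun h0 ⟨r, hr⟩⟩
  · rintro ⟨m, hm, h0⟩
    rw [← ι_inc hm]
    have : f ∘ₗ inc I hm = 0 := by
      ext ⟨r, hr⟩
      exact h0 r hr _
    rw [this, map_zero]

/-- Two representatives agreeing on a smaller power give the same element. -/
lemma ι_eq_of_agree {n n' m : ℕ} (hn : n ≤ m) (hn' : n' ≤ m) {f : (I ^ n : Ideal R) →ₗ[R] M}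
    {g : (I ^ n' : Ideal R) →ₗ[R] M}
    (h : ∀ (r : R) (hr : r ∈ I ^ m), f (inc I hn ⟨r, hr⟩) = g (inc I hn' ⟨r, hr⟩)) :
    ι I M n f = ι I M n' g := by
  rw [← ι_inc hn, ← ι_inc hn']
  congr 1
  ext ⟨r, hr⟩
  exact h r hr

lemma ι_smul_eq {n : ℕ} (a : R) (f : (I ^ n : Ideal R) →ₗ[R] M) :
    a • ι I M n f = ι I M n (a • f) := (map_smul _ _ _).symm

section Map

variable {N : Type u} [AddCommGroup N] [Module R N]

lemma map_ι (e : M →ₗ[R] N) (n : ℕ) (f : (I ^ n : Ideal R) →ₗ[R] M) :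
    ((LocCoh.idealTransform I).map (ModuleCat.ofHom e)).hom (ι I M n f) = ι I N n (e ∘ₗ f) := by
  have h2 := (colimit.ι (LocCoh.transformDiagram I) (op (op n))).naturality (ModuleCat.ofHom e)
  let f' : ModuleCat.of R (I ^ n : Ideal R) ⟶ ModuleCat.of R M := ModuleCat.ofHom f
  exact (ConcreteCategory.congr_hom h2 f').symm

lemma map_ι' {X Y : ModuleCat.{u} R} (e : X ⟶ Y) (n : ℕ) (f : (I ^ n : Ideal R) →ₗ[R] X) :
    ((LocCoh.idealTransform I).map e).hom (ι I X n f) = ι I Y n (e.hom ∘ₗ f) := map_ι e.hom n f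

end Map

/-- Multiplication by `m`, as a map on `I^n`. -/
def smulMap (J : Ideal R) (m : M) : J →ₗ[R] M :=
  (LinearMap.toSpanSingleton R M m).domRestrict J

@[simp] lemma smulMap_apply (J : Ideal R) (m : M) (r : J) : smulMap J m r = (r : R) • m := rfl

lemma toDT_eq_ι_zero (m : M) : LocCoh.toDT I M m = ι I M 0 (smulMap (I ^ 0) m) := rfl

lemma toDT_eq_ι (n : ℕ) (m : M) : LocCoh.toDT I M m = ι I M n (smulMap (I ^ n) m) := by
  rw [toDT_eq_ι_zero]
  exact (ι_inc (Nat.zero_le n) (smulMap (I ^ 0) m)).symm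

/-- The kernel of `η_M` is the `I`-power torsion submodule. -/
lemma toDT_eq_zero_iff (m : M) : LocCoh.toDT I M m = 0 ↔ m ∈ DRing.torsionSub I M := by
  rw [toDT_eq_ι_zero, ι_eq_zero_iff]
  constructor
  · rintro ⟨n, _, h⟩
    exact ⟨n, fun a ha => h a ha (by simp)⟩
  · rintro ⟨n, h⟩
    exact ⟨n, Nat.zero_le _, fun a ha _ => h a ha⟩

theorem ker_toDT : LinearMap.ker (LocCoh.toDT I M) = DRing.torsionSub I M := by
  ext m
  rw [LinearMap.mem_ker, toDT_eq_zero_iff]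

/-- `a • [f] = η(f a)` for `a ∈ I^n`. -/
lemma smul_ι {n : ℕ} (f : (I ^ n : Ideal R) →ₗ[R] M) (a : R) (ha : a ∈ I ^ n) :
    a • ι I M n f = LocCoh.toDT I M (f ⟨a, ha⟩) := by
  rw [toDT_eq_ι n, ι_smul_eq]
  congr 1
  ext ⟨r, hr⟩
  rw [LinearMap.smul_apply, smulMap_apply, ← map_smul, ← map_smul]
  congr 1
  ext
  simp [mul_comm]

/-- The cokernel of `η_M` is `I`-power torsion. -/
theorem isPowerTorsion_coker_toDT :
    LocCoh.IsPowerTorsion I (LocCoh.DT I M ⧸ LinearMap.range (LocCoh.toDT I M)) := by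
  intro q
  obtain ⟨y, rfl⟩ := Submodule.Quotient.mk_surjective _ q
  obtain ⟨n, f, rfl⟩ := exists_ι y
  refine ⟨n, fun a ha => ?_⟩
  rw [← Submodule.Quotient.mk_smul, Submodule.Quotient.mk_eq_zero, smul_ι f a ha]
  exact ⟨_, rfl⟩

/-- `η_{D M} = D(η_M)`. -/
theorem toDT_DT_eq (x : LocCoh.DT I M) :
    LocCoh.toDT I (LocCoh.DT I M) x =
      ((LocCoh.idealTransform I).map (ModuleCat.ofHom (LocCoh.toDT I M))).hom x := by
  obtain ⟨n, f, rfl⟩ := exists_ι x
  rw [map_ι, toDT_eq_ι n]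
  congr 1
  ext ⟨r, hr⟩
  rw [smulMap_apply, smul_ι f r hr]
  rfl

end K166.DTB
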